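import Cfsg.Agent.Lib.SmallOrders.PSL33.Setup
import Cfsg.Agent.S0165

/-!
The order of an involution centraliser in a simple group of order 5616 is not divisible by 9.
-/

set_option autoImplicit false
set_option linter.style.haveILetI false

namespace CfsgLib.SmallOrders.PSL33

open Subgroup Cfsg CfsgLib.CharTheory

universe u

variable {G : Type u} [Group G] [Finite G]

/-- An irreducible character of full degree vanishes at singular elements. -/
theorem apply_eq_zero_of_full {p n d : ℕ} (hp : p.Prime) (hn : p ^ n ∣ Nat.card G)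
    (hn' : ¬ p ^ (n + 1) ∣ Nat.card G) (χ : IrrCharacter G) (hd : (χ : G → ℂ) 1 = d) (hpd : p ^ n ∣ d)
    {y : G} (hy : p ∣ orderOf y) : (χ : G → ℂ) y = 0 := by
  obtain ⟨m, ρ, hρ, hρχ⟩ := id χ.2
  haveI := hρ
  rw [← hρχ]
  refine Cfsg.Agent.S0165.result ρ p n hp hn hn' ?_ y hy
  have h1 := congrFun hρχ 1
  rw [ρ.char_one, hd] at h1
  rw [Nat.cast_inj.1 h1]
  exact hpd

/-- The multiplicity of the trivial character on an involution times a group of 3-elements. -/
theorem exists_mult (χ : IrrCharacter G) (hvan : ∀ y : G, 3 ∣ orderOf y → (χ : G → ℂ) y = 0) {t : G}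
    (ht : orderOf t = 2) (Q : Subgroup G) (hQc : ∀ q ∈ Q, Commute t q) {k : ℕ}
    (hQ : Nat.card Q = 3 ^ k) :
    ∃ m : ℕ, (χ : G → ℂ) 1 + (χ : G → ℂ) t = ((2 * 3 ^ k * m : ℕ) : ℂ) := by
  classical
  haveI : Fact (Nat.Prime 3) := ⟨Nat.prime_three⟩
  haveI := Fintype.ofFinite Q
  haveI := Fintype.ofFinite (zpowers t)
  let φ : zpowers t × Q →* G := MonoidHom.noncommCoprod (zpowers t).subtype Q.subtype fun a b => by
    obtain ⟨j, hj⟩ := mem_zpowers_iff.1 a.2
    show Commute (a : G) (b : G)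
    rw [← hj]
    exact (hQc b b.2).zpow_left j
  have hχφ : IsCharacter (zpowers t × Q) fun x => (χ : G → ℂ) (φ x) := by
    obtain ⟨n, ρ, hρ⟩ := IsIrrCharacter.isCharacter χ.2
    exact ⟨n, ρ.comp φ, funext fun x => congrFun hρ (φ x)⟩
  obtain ⟨m, hm⟩ := IsCharacter.exists_classInner_eq_nat hχφ (trivIrr _)
  refine ⟨m, ?_⟩
  rw [classInner, inv_mul_eq_iff_eq_mul₀ (Nat.cast_ne_zero.2 Nat.card_pos.ne'), Nat.card_prod,
    Nat.card_zpowers, ht, hQ, Fintype.sum_prod_type] at hm
  have hzero : ∀ (s : zpowers t) (q : Q), q ≠ 1 → (χ : G → ℂ) (φ (s, q)) = 0 := by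
    intro s q hq
    refine hvan _ ?_
    have hcomm : Commute (s : G) (q : G) := by
      obtain ⟨j, hj⟩ := mem_zpowers_iff.1 s.2
      rw [← hj]; exact (hQc q q.2).zpow_left j
    have hs : orderOf (s : G) ∣ 2 := ht ▸ Nat.card_zpowers t ▸ Subgroup.orderOf_dvd_natCard _ s.2
    obtain ⟨j, hj, hqo⟩ := (Nat.dvd_prime_pow Nat.prime_three).1
      ((Subgroup.orderOf_dvd_natCard _ q.2).trans (dvd_of_eq hQ))
    have hj0 : j ≠ 0 := fun h => hq (Subtype.ext (orderOf_eq_one_iff.1 (by rw [hqo, h, pow_zero])))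
    show 3 ∣ orderOf ((s : G) * (q : G))
    rw [hcomm.orderOf_mul_eq_mul_orderOf_of_coprime (Nat.Coprime.coprime_dvd_left hs
      (by rw [hqo]; exact (by norm_num : Nat.Coprime 2 3).pow_right j)), hqo]
    exact (dvd_pow_self 3 hj0).mul_left _
  rw [Finset.sum_congr rfl (g := fun s : zpowers t => (χ : G → ℂ) s) (fun s _ => by
    rw [Finset.sum_eq_single (1 : Q) (fun q _ hq => by rw [hzero s q hq, zero_mul])
      (fun h => absurd (Finset.mem_univ _) h)]
    simp [φ, trivIrr_apply])] at hm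
  rw [Nat.cast_mul, ← hm]
  have ht1 : (⟨t, mem_zpowers t⟩ : zpowers t) ≠ 1 := fun h => by
    rw [show t = 1 from congrArg Subtype.val h, orderOf_one] at ht
    omega
  rw [Finset.sum_eq_add (1 : zpowers t) ⟨t, mem_zpowers t⟩ (Ne.symm ht1) (fun c _ hc => ?_)
    (fun h => absurd (Finset.mem_univ _) h) (fun h => absurd (Finset.mem_univ _) h)]
  · simp
  · exfalso
    haveI : Fact (Nat.Prime 2) := ⟨Nat.prime_two⟩
    have h2 : Nat.card (zpowers t) = 2 := by rw [Nat.card_zpowers, ht]
    obtain ⟨a, b, hab, huniv⟩ := Nat.card_eq_two_iff.1 h2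
    have h1 : (1 : zpowers t) ∈ ({a, b} : Set (zpowers t)) := huniv ▸ Set.mem_univ _
    have h3 : (⟨t, mem_zpowers t⟩ : zpowers t) ∈ ({a, b} : Set (zpowers t)) := huniv ▸ Set.mem_univ _
    have h4 : c ∈ ({a, b} : Set (zpowers t)) := huniv ▸ Set.mem_univ _
    simp only [Set.mem_insert_iff, Set.mem_singleton_iff] at h1 h3 h4
    grind

variable [IsSimpleGroup G]

/-- The centraliser of an involution has order dividing 432. -/
theorem centralizer_dvd (h : Nat.card G = 5616) {t : G} (ht : orderOf t = 2) :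
    Nat.card (centralizer ({t} : Set G)) ∣ 432 := by
  haveI : Fact (Nat.Prime 13) := ⟨by norm_num⟩
  have hd : Nat.card (centralizer ({t} : Set G)) ∣ 5616 := h ▸ card_subgroup_dvd_card _
  have h13 : ¬ 13 ∣ Nat.card (centralizer ({t} : Set G)) := by
    intro hdvd
    obtain ⟨g, hg⟩ := exists_prime_orderOf_dvd_card' 13 hdvd
    have hc : Commute (g : G) t := mem_centralizer_singleton_iff.1 g.2
    have := orderOf_dvd_of_commute_thirteen h ((orderOf_coe g).trans hg) hc
    rw [ht] at this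
    norm_num at this
  have hcop : Nat.Coprime (Nat.card (centralizer ({t} : Set G))) 13 :=
    ((Nat.Prime.coprime_iff_not_dvd (by norm_num)).2 h13).symm
  exact hcop.dvd_of_dvd_mul_right (by rw [show 432 * 13 = 5616 by norm_num]; exact hd)

/-- Nine does not divide the order of an involution centraliser. -/
theorem not_nine_dvd (h : Nat.card G = 5616) {t : G} (ht : orderOf t = 2) :
    ¬ 9 ∣ Nat.card (centralizer ({t} : Set G)) := by
  classical
  intro h9
  haveI : Fact (Nat.Prime 3) := ⟨Nat.prime_three⟩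
  haveI := Fintype.ofFinite G
  haveI := Fintype.ofFinite (IrrCharacter G)
  obtain ⟨χa, χb, ha1, hb1, hrel, -⟩ := exists_characters h
  set C := centralizer ({t} : Set G) with hC
  have hCd := centralizer_dvd h ht
  -- the value of the character of degree 27
  have hb : ∀ k, 3 ^ k ∣ Nat.card C → ∃ m : ℕ, (χb : G → ℂ) t = (((2 * 3 ^ k * m : ℕ) : ℤ) - 27 : ℤ) := by
    intro k hk
    obtain ⟨Q, hQ⟩ := Sylow.exists_subgroup_card_pow_prime 3 hk
    have hcomm : ∀ q ∈ Q.map C.subtype, Commute t q := by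
      rintro _ ⟨q, -, rfl⟩
      exact (mem_centralizer_singleton_iff.1 q.2).symm
    obtain ⟨m, hm⟩ := exists_mult χb (fun y hy => apply_eq_zero_of_full (n := 3) Nat.prime_three
      (by rw [h]; norm_num) (by rw [h]; norm_num) χb (d := 27) (by rw [hb1]; norm_num) (by norm_num) hy)
      ht (Q.map C.subtype) hcomm (k := k) (by rw [card_map_of_injective C.subtype_injective, hQ])
    refine ⟨m, ?_⟩
    rw [hb1] at hm
    push_cast at hm ⊢
    linear_combination hm
  -- the relation
  have hne : t ≠ 1 := fun e => by rw [e, orderOf_one] at ht; omega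
  obtain ⟨ψ, hψ1, hψ⟩ := hrel t hne (by rw [ht]; norm_num)
  have hψ0 := apply_eq_zero_of_full (n := 4) Nat.prime_two (by rw [h]; norm_num) (by rw [h]; norm_num) ψ
    (d := 16) (by rw [hψ1]; norm_num) (by norm_num) (y := t) (by rw [ht])
  rw [hψ0, sub_zero] at hψ
  -- column bound
  have hab : χa ≠ χb := fun e => by rw [e, hb1] at ha1; norm_num at ha1
  have hbound : ∀ b : ℤ, (χb : G → ℂ) t = b → 1 + (b + 1) ^ 2 + b ^ 2 ≤ (Nat.card C : ℤ) := by
    intro b hbt
    have hat : (χa : G → ℂ) t = ((b + 1 : ℤ) : ℂ) := by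
      push_cast
      rw [← hbt]
      linear_combination -hψ
    have hcol : ∑ χ : IrrCharacter G, ‖(χ : G → ℂ) t‖ ^ 2 = (Nat.card C : ℝ) := by
      have h0 := sum_mul_conj t t
      rw [if_pos (IsConj.refl _)] at h0
      apply Complex.ofReal_injective
      push_cast
      rw [← h0]
      exact Finset.sum_congr rfl fun χ _ => (Complex.mul_conj' _).symm
    have ht0 : trivIrr G ≠ χa := fun e => by rw [← e, trivIrr_apply] at ha1; norm_num at ha1
    have ht0' : trivIrr G ≠ χb := fun e => by rw [← e, trivIrr_apply] at hb1; norm_num at hb1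
    have hsub := Finset.sum_le_sum_of_subset_of_nonneg
      (f := fun χ : IrrCharacter G => ‖(χ : G → ℂ) t‖ ^ 2)
      (Finset.subset_univ ({trivIrr G, χa, χb} : Finset (IrrCharacter G))) (fun χ _ _ => by positivity)
    rw [hcol, Finset.sum_insert (by simp [ht0, ht0']), Finset.sum_pair hab, trivIrr_apply, hat, hbt,
      norm_one, Complex.norm_intCast, Complex.norm_intCast, sq_abs, sq_abs, one_pow, ← add_assoc] at hsub
    exact_mod_cast hsub
  have hnorm : ∀ b : ℤ, (χb : G → ℂ) t = b → b ^ 2 ≤ 729 := by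
    intro b hbt
    have := IsCharacter.norm_le (IsIrrCharacter.isCharacter χb.2) t
    rw [hb1, hbt, Complex.norm_intCast] at this
    norm_num at this
    rw [← Int.cast_abs] at this
    have h' : |b| ≤ 27 := (Int.cast_le (R := ℝ)).1 (le_trans this (by simp))
    nlinarith [sq_abs b, abs_nonneg b]
  obtain ⟨m, hm⟩ := hb 2 h9
  have hB := hbound _ hm
  have hN := hnorm _ hm
  have hC432 : Nat.card C ≤ 432 := Nat.le_of_dvd (by norm_num) hCd
  have hm3 : m ≤ 3 := by push_cast at hN; nlinarith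
  by_cases h27 : 27 ∣ Nat.card C
  · obtain ⟨m', hm'⟩ := hb 3 h27
    have hB' := hbound _ hm'
    have hN' := hnorm _ hm'
    have : m' ≤ 1 := by push_cast at hN'; nlinarith
    interval_cases m' <;> norm_num [-Nat.card_eq_fintype_card] at hB' <;> omega
  · have h144 : Nat.card C ≤ 144 := (by decide +kernel :
      ∀ d ∈ Nat.divisors 432, ¬ 27 ∣ d → d ≤ 144) _ (Nat.mem_divisors.2 ⟨hCd, by norm_num⟩) h27
    interval_cases m <;> norm_num [-Nat.card_eq_fintype_card] at hB <;> omega

end CfsgLib.SmallOrders.PSL33
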