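import Cfsg.Agent.Lib.SmallOrders.PSL33.Setup
import Cfsg.Agent.S0074
import Cfsg.Agent.S0077

/-!
Two Sylow 3-subgroups meeting in a subgroup of order 9 in a simple group of order 5616.
-/

set_option autoImplicit false
set_option linter.style.haveILetI false

namespace CfsgLib.SmallOrders.PSL33

open Subgroup CfsgLib.SmallGroups

universe u

variable {G : Type u} [Group G] [Finite G]

theorem card_sylow_three [Fact (Nat.Prime 3)] (h : Nat.card G = 5616) (P : Sylow 3 G) :
    Nat.card (P : Subgroup G) = 27 := by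
  simpa using card_sylow_eq (a := 3) (m := 208) (by rw [h]; norm_num) (by norm_num) P

/-- A pair of subgroups of order 27 meeting in at least 9 points meets in exactly 9. -/
theorem card_inf_eq_nine [Fact (Nat.Prime 3)] (h : Nat.card G = 5616) {P T : Sylow 3 G} (hne : P ≠ T)
    (h9 : 3 < Nat.card ((P : Subgroup G) ⊓ (T : Subgroup G) : Subgroup G)) :
    Nat.card ((P : Subgroup G) ⊓ (T : Subgroup G) : Subgroup G) = 9 := by
  set D := (P : Subgroup G) ⊓ (T : Subgroup G)
  have hd : Nat.card D ∣ 27 := card_sylow_three h P ▸ card_dvd_of_le inf_le_left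
  have h27 : Nat.card D ≠ 27 := fun e => hne (Sylow.ext (eq_of_le_of_card_ge
    (le_trans (le_of_eq (eq_of_le_of_card_ge (inf_le_left : D ≤ (P : Subgroup G))
      (le_of_eq (by rw [card_sylow_three h, e]))).symm) inf_le_right)
    (le_of_eq (by rw [card_sylow_three h, card_sylow_three h]))))
  exact (by decide +kernel : ∀ d ∈ Nat.divisors 27, 3 < d → d ≠ 27 → d = 9) _
    (Nat.mem_divisors.2 ⟨hd, by norm_num⟩) h9 h27

/-- The Sylow intersection given by the number of Sylow subgroups of an overgroup. -/
theorem exists_inter_of_card [Fact (Nat.Prime 3)] (h : Nat.card G = 5616) (H : Subgroup G) (P : Sylow 3 G)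
    (hPH : (P : Subgroup G) ≤ H) (hmod : Nat.card (Sylow 3 H) % 9 ≠ 1) :
    ∃ P' T : Sylow 3 G, P' ≠ T ∧
      Nat.card ((P' : Subgroup G) ⊓ (T : Subgroup G) : Subgroup G) = 9 := by
  obtain ⟨A, B, hAB, hidx⟩ := exists_sylow_inter (G := H) 3 2 (fun e => hmod e)
  have hAcard : ∀ A : Sylow 3 H, Nat.card (A : Subgroup H) = 27 := by
    intro A
    rw [A.card_eq_multiplicity, ← (P.subtype hPH).card_eq_multiplicity, Sylow.coe_subtype,
      Nat.card_congr (subgroupOfEquivOfLe hPH).toEquiv, card_sylow_three h]
  have key : ∀ A : Sylow 3 H, ∃ P' : Sylow 3 G, (P' : Subgroup G) = (A : Subgroup H).map H.subtype := by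
    intro A
    have hp := A.isPGroup'.map H.subtype
    obtain ⟨P', hP'⟩ := hp.exists_le_sylow
    exact ⟨P', (eq_of_le_of_card_ge hP' (le_of_eq (by
      rw [card_sylow_three h, card_map_of_injective H.subtype_injective, hAcard]))).symm⟩
  obtain ⟨P', hP'⟩ := key A
  obtain ⟨T, hT⟩ := key B
  have hne : P' ≠ T := fun e => hAB (Sylow.ext (map_injective H.subtype_injective
    (by rw [← hP', ← hT, e])))
  refine ⟨P', T, hne, card_inf_eq_nine h hne ?_⟩
  rw [hP', hT, ← map_inf _ _ _ H.subtype_injective, card_map_of_injective H.subtype_injective]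
  have hmul := ((B : Subgroup H).subgroupOf (A : Subgroup H)).card_mul_index
  rw [hAcard, ← inf_subgroupOf_left, Nat.card_congr (subgroupOfEquivOfLe inf_le_left).toEquiv,
    inf_subgroupOf_left] at hmul
  norm_num at hidx
  by_contra hle
  have := Nat.mul_le_mul (not_lt.1 hle) hidx
  omega

variable [IsSimpleGroup G]

theorem exists_inter_nine [Fact (Nat.Prime 3)] (h : Nat.card G = 5616) :
    ∃ P T : Sylow 3 G, P ≠ T ∧
      Nat.card ((P : Subgroup G) ⊓ (T : Subgroup G) : Subgroup G) = 9 := by
  have hG := not_comm h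
  obtain ⟨P⟩ := (inferInstance : Nonempty (Sylow 3 G))
  have hP := card_sylow_three h P
  by_cases hmod : Nat.card (Sylow 3 G) % 9 = 1
  swap
  · obtain ⟨A, B, hAB, hidx⟩ := exists_sylow_inter (G := G) 3 2 (fun e => hmod e)
    refine ⟨A, B, hAB, card_inf_eq_nine h hAB ?_⟩
    have hmul := ((B : Subgroup G).subgroupOf (A : Subgroup G)).card_mul_index
    rw [card_sylow_three h, ← inf_subgroupOf_left, Nat.card_congr (subgroupOfEquivOfLe inf_le_left).toEquiv,
      inf_subgroupOf_left] at hmul
    norm_num at hidx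
    by_contra hle
    have := Nat.mul_le_mul (not_lt.1 hle) hidx
    omega
  set N := normalizer ((P : Subgroup G) : Set G) with hN
  have hmul := card_sylow_mul_card_normalizer P
  rw [h, ← hN] at hmul
  have hn : Nat.card (Sylow 3 G) = 208 := by
    have hd : Nat.card (Sylow 3 G) ∣ 208 := by
      obtain ⟨k, hk⟩ := hP ▸ card_dvd_of_le (le_normalizer : (P : Subgroup G) ≤ N)
      rw [hk] at hmul
      exact Dvd.intro k (Nat.eq_of_mul_eq_mul_left (show 0 < 27 by norm_num) (by rw [← mul_assoc, mul_comm 27, mul_assoc, hmul]))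
    have hne1 : Nat.card (Sylow 3 G) ≠ 1 := fun e => by
      have := two_mul_card_dvd_factorial_card_sylow hG (p := 3) (by rw [h]; norm_num)
      rw [e, h] at this
      norm_num at this
    exact (by decide +kernel : ∀ n ∈ Nat.divisors 208, n % 9 = 1 → n ≠ 1 → n = 208) _
      (Nat.mem_divisors.2 ⟨hd, by norm_num⟩) hmod hne1
  have hNP : N = (P : Subgroup G) := (eq_of_le_of_card_ge (le_normalizer) (by
    rw [hP]; rw [hn, hN] at hmul; omega)).symm
  have hperf : commutator G = ⊤ :=
    (inferInstance : (commutator G).Normal).eq_bot_or_eq_top.resolve_left fun hb =>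
      hG (IsMulCommutative.of_comm fun a b => ((mem_center_iff.mp
        ((commutator_eq_bot_iff_center_eq_top G).mp hb ▸ mem_top a)) b).symm)
  by_cases hab : IsMulCommutative (P : Subgroup G)
  · exfalso
    have h74 := Cfsg.Agent.S0074.result P hab
    rw [hperf, top_inf_eq] at h74
    replace h74 : (P : Subgroup G) = ⁅N, N⁆ ⊓ (P : Subgroup G) := h74
    rw [hNP] at h74
    have hbot : ⁅(P : Subgroup G), (P : Subgroup G)⁆ = ⊥ := by
      rw [commutator_eq_bot_iff_le_centralizer]
      intro a ha b hb
      exact congrArg Subtype.val (hab.is_comm.comm (⟨b, hb⟩ : (P : Subgroup G)) ⟨a, ha⟩)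
    rw [hbot, bot_inf_eq] at h74
    rw [h74, card_bot] at hP
    norm_num at hP
  -- the centre of P
  set Z := (center (P : Subgroup G)).map (P : Subgroup G).subtype with hZdef
  have hZP : Z ≤ (P : Subgroup G) := map_subtype_le _
  have hZc : Nat.card Z = 3 := by
    rw [card_map_of_injective (P : Subgroup G).subtype_injective]
    have hd : Nat.card (center (P : Subgroup G)) ∣ 27 := hP ▸ card_subgroup_dvd_card _
    haveI : Nontrivial (P : Subgroup G) := Finite.one_lt_card_iff_nontrivial.1 (by omega)
    haveI := P.2.center_nontrivial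
    have h1 : 1 < Nat.card (center (P : Subgroup G)) := Finite.one_lt_card
    have hq : Nat.card (center (P : Subgroup G)) ≠ 9 ∧ Nat.card (center (P : Subgroup G)) ≠ 27 := by
      constructor <;> intro e <;> apply hab
      · haveI : IsCyclic ((P : Subgroup G) ⧸ center (P : Subgroup G)) := isCyclic_of_prime_card (p := 3) (by
          have := (center (P : Subgroup G)).card_mul_index
          rw [e, hP] at this
          rw [← index_eq_card]; omega)
        exact IsMulCommutative.of_comm (commutative_of_cyclic_center_quotient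
          (QuotientGroup.mk' (center (P : Subgroup G))) (by rw [QuotientGroup.ker_mk']))
      · have := eq_top_of_card_eq _ (e.trans hP.symm)
        exact IsMulCommutative.of_comm fun a b => (mem_center_iff.1 (this ▸ mem_top b) a)
    exact (by decide +kernel : ∀ d ∈ Nat.divisors 27, 1 < d → d ≠ 9 → d ≠ 27 → d = 3) _
      (Nat.mem_divisors.2 ⟨hd, by norm_num⟩) h1 hq.1 hq.2
  have hZcent : Z ≤ centralizer ((P : Subgroup G) : Set G) := by
    rintro _ ⟨z, hz, rfl⟩
    rw [mem_centralizer_iff]
    intro y hy
    exact congrArg Subtype.val (mem_center_iff.1 hz ⟨y, hy⟩)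
  by_cases hW : Cfsg.IsWeaklyClosed Z P
  · have h77 := Cfsg.Agent.S0077.result P Z hZcent hW
    rw [hperf, top_inf_eq] at h77
    set H := normalizer (Z : Set G) with hH
    have hPle : (P : Subgroup G) ≤ ⁅H, H⁆ := h77.le.trans inf_le_left
    have hPH : (P : Subgroup G) ≤ H := fun y hy => mem_normalizer_iff.2 fun z => by
      constructor
      · intro hz
        rw [(mem_centralizer_iff.1 (hZcent hz) y hy), mul_inv_cancel_right]
        exact hz
      · intro hz
        have hc := mem_centralizer_iff.1 (hZcent hz) y hy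
        have : y * z * y⁻¹ = z := by
          have h' := congrArg (fun w => y⁻¹ * w * y) hc
          simp [mul_assoc] at h'
          calc y * z * y⁻¹ = y⁻¹ * (y * (y * z * y⁻¹)) := by group
            _ = z := by rw [hc]; group
        rwa [this] at hz
    refine exists_inter_of_card h H P hPH fun hmodH => ?_
    have hnH : (P.subtype hPH : Sylow 3 H).toSubgroup = (P : Subgroup G).subgroupOf H := rfl
    have hNH : normalizer ((P.subtype hPH : Subgroup H) : Set H) = (P : Subgroup G).subgroupOf H := by
      refine le_antisymm (fun y hy => ?_) (by rw [← hnH]; exact le_normalizer)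
      have h2 := le_normalizer_map H.subtype ⟨y, hy, rfl⟩
      rw [Sylow.coe_subtype, map_subgroupOf_eq_of_le hPH, ← hN, hNP] at h2
      exact h2
    have hcardH : Nat.card (Sylow 3 H) * 27 = Nat.card H := by
      rw [← card_sylow_mul_card_normalizer (P.subtype hPH), hNH,
        Nat.card_congr (subgroupOfEquivOfLe hPH).toEquiv, hP]
    have hd : Nat.card (Sylow 3 H) ∣ 208 := Nat.dvd_of_mul_dvd_mul_right (show 0 < 27 by norm_num)
      (by rw [hcardH, show 208 * 27 = 5616 by norm_num, ← h]; exact card_subgroup_dvd_card H)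
    rcases (by decide +kernel : ∀ n ∈ Nat.divisors 208, n % 9 = 1 → n = 1 ∨ n = 208) _
      (Nat.mem_divisors.2 ⟨hd, by norm_num⟩) hmodH with e | e <;> rw [e] at hcardH
    · have hHP : H = (P : Subgroup G) := (eq_of_le_of_card_ge hPH (by omega)).symm
      rw [hHP] at hPle
      haveI : Group.IsSolvable (P : Subgroup G) := by
        haveI := P.isPGroup'.isNilpotent
        infer_instance
      haveI : Nontrivial (P : Subgroup G) := Finite.one_lt_card_iff_nontrivial.1 (by omega)
      rw [← map_subtype_commutator] at hPle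
      refine (IsSolvable.commutator_lt_top_of_nontrivial (P : Subgroup G)).ne (eq_top_iff.2 fun y _ => ?_)
      obtain ⟨z, hz, hzy⟩ := hPle y.2
      rwa [← (P : Subgroup G).subtype_injective hzy]
    · have hHt : H = ⊤ := eq_top_of_card_eq _ (by omega)
      have : Z.Normal := normalizer_eq_top_iff.1 hHt
      rcases this.eq_bot_or_eq_top with e' | e' <;> rw [e'] at hZc
      · rw [card_bot] at hZc; norm_num at hZc
      · rw [card_top, h] at hZc; norm_num at hZc
  · -- a second conjugate of the centre inside P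
    simp only [Cfsg.IsWeaklyClosed, not_and, not_forall] at hW
    obtain ⟨g, hgle, hgne⟩ := hW hZP
    set Z' := Z.map (MulAut.conj g).toMonoidHom with hZ'
    have hZ'c : Nat.card Z' = 3 := by rw [card_map_of_injective (MulAut.conj g).injective, hZc]
    set C := centralizer (Z' : Set G) with hC
    have hPgC : (P : Subgroup G).map (MulAut.conj g).toMonoidHom ≤ C := by
      rintro _ ⟨y, hy, rfl⟩
      rw [hC, mem_centralizer_iff]
      rintro _ ⟨z, hz, rfl⟩
      show (MulAut.conj g) z * (MulAut.conj g) y = (MulAut.conj g) y * (MulAut.conj g) z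
      rw [← map_mul, ← map_mul, (mem_centralizer_iff.1 (hZcent hz) y hy).symm]
    have h27C : 27 ∣ Nat.card C := by
      have := card_dvd_of_le hPgC
      rwa [card_map_of_injective (MulAut.conj g).injective, hP] at this
    have hEC : Z ⊔ Z' ≤ C := by
      rw [sup_le_iff]
      refine ⟨fun z hz => ?_, fun z hz => ?_⟩
      · rw [hC, mem_centralizer_iff]
        exact fun w hw => mem_centralizer_iff.1 (hZcent hz) w (hgle hw)
      · rw [hC, mem_centralizer_iff]
        intro w hw
        haveI : IsCyclic Z' := isCyclic_of_prime_card hZ'c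
        exact congrArg Subtype.val ((IsCyclic.commutative (α := Z')).is_comm.comm ⟨w, hw⟩ ⟨z, hz⟩)
    have hEp : IsPGroup 3 ((Z ⊔ Z').subgroupOf C) :=
      (P.isPGroup'.to_le (sup_le hZP hgle)).comap_subtype
    obtain ⟨T₀, hT₀⟩ := hEp.exists_le_sylow
    have hT₀c : 27 ∣ Nat.card (T₀ : Subgroup C) := T₀.pow_dvd_card_of_pow_dvd_card (n := 3) h27C
    obtain ⟨T, hT⟩ := (T₀.isPGroup'.map C.subtype).exists_le_sylow
    have hTeq : (T₀ : Subgroup C).map C.subtype = (T : Subgroup G) := eq_of_le_of_card_ge hT (by
      rw [card_sylow_three h, card_map_of_injective C.subtype_injective]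
      exact Nat.le_of_dvd Nat.card_pos hT₀c)
    have hET : Z ⊔ Z' ≤ (T : Subgroup G) := by
      refine le_trans ?_ hT
      intro y hy
      exact ⟨⟨y, hEC hy⟩, hT₀ (mem_subgroupOf.2 hy), rfl⟩
    have hne : P ≠ T := by
      intro e
      have hPC : (P : Subgroup G) ≤ C := by
        rw [e, ← hTeq]; exact map_subtype_le _
      refine hgne (eq_of_le_of_card_ge ?_ (le_of_eq (by rw [hZc, hZ'c])))
      intro z hz
      exact ⟨⟨z, hgle hz⟩, mem_center_iff.2 fun y =>
        Subtype.ext (mem_centralizer_iff.1 (hPC y.2) z hz).symm, rfl⟩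
    refine ⟨P, T, hne, card_inf_eq_nine h hne ?_⟩
    have hle : Z ⊔ Z' ≤ (P : Subgroup G) ⊓ (T : Subgroup G) := le_inf (sup_le hZP hgle) hET
    refine lt_of_lt_of_le ?_ (card_le_of_le hle)
    by_contra hcon
    have e1 := eq_of_le_of_card_ge (le_sup_left : Z ≤ Z ⊔ Z') (by omega)
    have e2 := eq_of_le_of_card_ge (le_sup_right : Z' ≤ Z ⊔ Z') (by omega)
    exact hgne (e2.trans e1.symm)

end CfsgLib.SmallOrders.PSL33
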