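import Cfsg.Agent.Lib.SmallOrders.PSL33.InvolutionBound
import Cfsg.Agent.Lib.SmallOrders.PSL33.LocalNine
import Cfsg.Agent.Lib.Involutions.GLTwoThree.Simplicity

/-!
The normaliser of a subgroup of order 9 that lies in two Sylow 3-subgroups, as a group of linear
maps of the plane over the field of three elements.
-/

set_option autoImplicit false
set_option linter.style.haveILetI false

namespace CfsgLib.SmallOrders.PSL33

open Subgroup CfsgLib.Involutions.GLTwoThree

universe u

variable {G : Type u} [Group G]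

theorem mat_thirty_one : mat 31 = -1 := by decide

/-- A normaliser acts on an elementary abelian subgroup of order nine through `GL(2,3)`. -/
theorem exists_hom_plane [Finite G] (D : Subgroup G) (hD : Nat.card D = 9)
    (hab : ∀ a ∈ D, ∀ b ∈ D, a * b = b * a) (hexp : ∀ a ∈ D, a ^ 3 = 1) :
    ∃ φ : ↥(normalizer (D : Set G)) →* M,
      (∀ g : ↥(normalizer (D : Set G)), φ g = 1 ↔ (g : G) ∈ centralizer (D : Set G)) ∧
      ∀ g : ↥(normalizer (D : Set G)), φ g = el 31 → ∀ d ∈ D, (g : G) * d * (g : G)⁻¹ = d⁻¹ := by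
  classical
  haveI : Fact (Nat.Prime 3) := ⟨Nat.prime_three⟩
  letI : CommGroup D := { (inferInstance : Group D) with
    mul_comm := fun a b => Subtype.ext (hab a a.2 b b.2) }
  letI : Module (ZMod 3) (Additive D) := AddCommGroup.zmodModule (n := 3) fun x => by
    apply Additive.toMul.injective
    rw [toMul_nsmul, toMul_zero]
    exact Subtype.ext (by rw [SubgroupClass.coe_pow, OneMemClass.coe_one]; exact hexp _ (Additive.toMul x).2)
  haveI : Module.Finite (ZMod 3) (Additive D) := Module.Finite.of_finite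
  have hcard : Nat.card (Additive D) = 3 ^ Module.finrank (ZMod 3) (Additive D) := by
    rw [Module.natCard_eq_pow_finrank (K := ZMod 3), Nat.card_zmod]
  have hrank : Module.finrank (ZMod 3) (Additive D) = 2 := by
    rw [show Nat.card (Additive D) = 9 from (Nat.card_congr Additive.toMul).trans hD] at hcard
    exact (Nat.pow_right_injective (le_refl 2 |>.trans (by norm_num : (2 : ℕ) ≤ 3))) (hcard.symm.trans (by norm_num) : 3 ^ Module.finrank (ZMod 3) (Additive D) = 3 ^ 2)
  let b := Module.finBasisOfFinrankEq (ZMod 3) (Additive D) hrank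
  set N := normalizer (D : Set G)
  have hmem : ∀ (g : N) (d : D), (g : G) * d * (g : G)⁻¹ ∈ D := fun g d =>
    (mem_normalizer_iff.1 g.2 d).1 d.2
  let ρ : N →* Module.End (ZMod 3) (Additive D) :=
    { toFun := fun g => AddMonoidHom.toZModLinearMap 3
        { toFun := fun x => Additive.ofMul ⟨(g : G) * (Additive.toMul x : D) * (g : G)⁻¹, hmem g _⟩
          map_zero' := congrArg Additive.ofMul (Subtype.ext (by simp))
          map_add' := fun x y => congrArg Additive.ofMul (Subtype.ext (by simp [mul_assoc])) }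
      map_one' := by
        refine LinearMap.ext fun x => Additive.toMul.injective (Subtype.ext ?_)
        show ((1 : N) : G) * (Additive.toMul x : D) * ((1 : N) : G)⁻¹ = (Additive.toMul x : D)
        simp
      map_mul' := fun g g' => by
        refine LinearMap.ext fun x => Additive.toMul.injective (Subtype.ext ?_)
        show ((g * g' : N) : G) * (Additive.toMul x : D) * ((g * g' : N) : G)⁻¹ =
          (g : G) * ((g' : G) * (Additive.toMul x : D) * (g' : G)⁻¹) * (g : G)⁻¹
        simp [mul_assoc] }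
  let e : Module.End (ZMod 3) (Additive D) ≃* Matrix (Fin 2) (Fin 2) (ZMod 3) :=
    (LinearMap.toMatrixAlgEquiv b).toMulEquiv
  let φ : N →* M := (Units.mapEquiv e).toMonoidHom.comp ρ.toHomUnits
  have hφ : ∀ g : N, ((φ g : M) : Matrix (Fin 2) (Fin 2) (ZMod 3)) = e (ρ g) := fun g => rfl
  have hρ : ∀ (g : N) (d : D), Additive.toMul (ρ g (Additive.ofMul d)) =
      (⟨(g : G) * d * (g : G)⁻¹, hmem g d⟩ : D) := fun g d => rfl
  refine ⟨φ, fun g => ⟨fun h => ?_, fun h => ?_⟩, fun g h d hd => ?_⟩
  · rw [mem_centralizer_iff]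
    intro d hd
    have h1 : ρ g = 1 := e.injective (by rw [← hφ, h, map_one]; rfl)
    have h2 := hρ g ⟨d, hd⟩
    rw [h1] at h2
    have h3 : d = (g : G) * d * (g : G)⁻¹ := congrArg Subtype.val h2
    calc d * (g : G) = ((g : G) * d * (g : G)⁻¹) * g := by rw [← h3]
      _ = g * d := by group
  · refine Units.ext ?_
    rw [hφ, Units.val_one, ← map_one e]
    refine congrArg e (LinearMap.ext fun x => Additive.toMul.injective (Subtype.ext ?_))
    show (g : G) * (Additive.toMul x : D) * (g : G)⁻¹ = (Additive.toMul x : D)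
    rw [← mem_centralizer_iff.1 h _ (Additive.toMul x).2, mul_inv_cancel_right]
  · have h1 : ρ g = -1 := by
      refine e.injective ?_
      rw [← hφ, h]
      show mat 31 = (LinearMap.toMatrixAlgEquiv b) (-1)
      rw [map_neg, map_one]
      exact mat_thirty_one
    have h2 := hρ g ⟨d, hd⟩
    rw [h1] at h2
    exact (congrArg Subtype.val h2).symm

/-- Two elements of order three generating different subgroups generate `-1`. -/
theorem minus_one_table : ∀ i j : Idx, powI i 3 = 0 → powI j 3 = 0 → i ≠ 0 → j ≠ 0 → j ≠ i →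
    j ≠ powI i 2 → ∃ n : Fin 8, powI (mulI i j) n.val = 31 ∨ powI (mulI i (invI j)) n.val = 31 := by
  decide +kernel

/-- A subgroup with two elements of order three generating different subgroups contains `-1`. -/
theorem minus_one_mem (H : Subgroup M) {x y : M} (hx : x ∈ H) (hy : y ∈ H) (hx3 : x ^ 3 = 1)
    (hy3 : y ^ 3 = 1) (hx1 : x ≠ 1) (hne : y ∉ zpowers x) : el 31 ∈ H := by
  have hp : ∀ z : M, z ^ 3 = 1 → powI (idx z) 3 = 0 := fun z hz => by rw [← idx_pow, hz, idx_one]
  have hne' : ∀ z : M, z ≠ 1 → idx z ≠ 0 := fun z hz h => hz ((eq_iff z 1).2 (h.trans idx_one.symm))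
  obtain ⟨n, hn | hn⟩ := minus_one_table (idx x) (idx y) (hp x hx3) (hp y hy3) (hne' x hx1)
    (hne' y fun h => hne (h ▸ one_mem _)) (fun h => hne ((eq_iff y x).2 h ▸ mem_zpowers x))
    (fun h => hne (by rw [← idx_pow, ← eq_iff] at h; rw [h]; exact pow_mem (mem_zpowers x) 2))
  · rw [← idx_mul, ← idx_pow] at hn
    rw [show el 31 = (x * y) ^ n.val from (eq_iff _ _).2 (by rw [idx_el, hn])]
    exact pow_mem (mul_mem hx hy) _
  · rw [← idx_inv, ← idx_mul, ← idx_pow] at hn
    rw [show el 31 = (x * y⁻¹) ^ n.val from (eq_iff _ _).2 (by rw [idx_el, hn])]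
    exact pow_mem (mul_mem hx (inv_mem hy)) _

theorem card_M : Nat.card M = 48 :=
  (Nat.card_congr idxEquiv).trans (by rw [Nat.card_fin])

end CfsgLib.SmallOrders.PSL33
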