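import Cfsg.Agent.Lib.SmallOrders.PSL33.Plane
import Cfsg.Agent.Lib.Involutions.GLTwoThree.Model
import Cfsg.Agent.Lib.Involutions.GLTwoThree.Simple

/-!
A simple group of order 5616 is `PSL(3,3)`.
-/

set_option autoImplicit false
set_option linter.style.haveILetI false

namespace CfsgLib.SmallOrders.PSL33

open Subgroup CfsgLib.Involutions.GLTwoThree CfsgLib.SmallGroups
open scoped commutatorElement

universe u

variable {G : Type u} [Group G] [Finite G] [IsSimpleGroup G]

/-- A subgroup of order 9 of a Sylow 3-subgroup is normalised by it. -/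
theorem le_normalizer_nine [Fact (Nat.Prime 3)] (h : Nat.card G = 5616) (S : Sylow 3 G) {D : Subgroup G}
    (hD : Nat.card D = 9) (hS : D ≤ (S : Subgroup G)) : (S : Subgroup G) ≤ normalizer (D : Set G) := by
  refine (normal_subgroupOf_iff_le_normalizer hS).1 (normal_of_index_eq_minFac_card ?_)
  have h1 := (D.subgroupOf (S : Subgroup G)).card_mul_index
  rw [Nat.card_congr (subgroupOfEquivOfLe hS).toEquiv, card_sylow_three h, hD] at h1
  rw [card_sylow_three h, show (27 : ℕ) = 3 ^ 3 by norm_num, Nat.prime_three.pow_minFac (by norm_num)]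
  omega

/-- A subgroup of order 9 in two Sylow 3-subgroups is elementary abelian and self-centralising. -/
theorem structure_nine [Fact (Nat.Prime 3)] (h : Nat.card G = 5616) {P T : Sylow 3 G} (hPT : P ≠ T)
    {D : Subgroup G} (hD : Nat.card D = 9) (hDP : D ≤ (P : Subgroup G)) (hDT : D ≤ (T : Subgroup G)) :
    (∀ a ∈ D, ∀ b ∈ D, a * b = b * a) ∧ (∀ a ∈ D, a ^ 3 = 1) ∧ centralizer (D : Set G) = D := by
  haveI : Fact (Nat.Prime 13) := ⟨by norm_num⟩
  haveI : Fact (Nat.Prime 2) := ⟨Nat.prime_two⟩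
  haveI hDc : IsMulCommutative D :=
    IsPGroup.isMulCommutative_of_card_eq_prime_sq (p := 3) (by rw [hD]; norm_num)
  have hab : ∀ a ∈ D, ∀ b ∈ D, a * b = b * a := fun a ha b hb =>
    congrArg Subtype.val (hDc.is_comm.comm (⟨a, ha⟩ : D) ⟨b, hb⟩)
  have hPN := le_normalizer_nine h P hD hDP
  have hTN := le_normalizer_nine h T hD hDT
  set C := centralizer (D : Set G) with hC
  have hDC : D ≤ C := fun a ha => mem_centralizer_iff.2 fun b hb => hab b hb a ha
  have hnoinv : ∀ y ∈ C, orderOf y ≠ 2 := fun y hy hy2 => not_nine_dvd h hy2 (by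
    rw [← hD]
    refine card_dvd_of_le fun a ha => mem_centralizer_singleton_iff.2 ?_
    exact mem_centralizer_iff.1 hy a ha)
  have hC27 : Nat.card C ∣ 27 := by
    have hd : Nat.card C ∣ 5616 := h ▸ card_subgroup_dvd_card C
    have h2 : ¬ 2 ∣ Nat.card C := fun hh => by
      obtain ⟨y, hy⟩ := exists_prime_orderOf_dvd_card' 2 hh
      exact hnoinv y y.2 ((orderOf_coe y).trans hy)
    have h13 : ¬ 13 ∣ Nat.card C := fun hh => by
      obtain ⟨y, hy⟩ := exists_prime_orderOf_dvd_card' 13 hh
      obtain ⟨a, ha⟩ := exists_prime_orderOf_dvd_card' (G := D) 3 (by rw [hD]; norm_num)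
      have := orderOf_dvd_of_commute_thirteen h ((orderOf_coe y).trans hy) (y := (a : G))
        (mem_centralizer_iff.1 y.2 a a.2).symm
      rw [orderOf_coe, ha] at this
      norm_num at this
    exact (by decide +kernel : ∀ d ∈ Nat.divisors 5616, ¬ 2 ∣ d → ¬ 13 ∣ d → d ∣ 27) _
      (Nat.mem_divisors.2 ⟨hd, by norm_num⟩) h2 h13
  have hC9 : C = D := by
    refine (eq_of_le_of_card_ge hDC ?_).symm
    rw [hD]
    by_contra hgt
    have h27 : Nat.card C = 27 := (by decide +kernel : ∀ d ∈ Nat.divisors 27, ¬ d ≤ 9 → d = 27) _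
      (Nat.mem_divisors.2 ⟨hC27, by norm_num⟩) hgt
    -- then C would be a normal Sylow subgroup of the normaliser
    have key : ∀ S : Sylow 3 G, (S : Subgroup G) ≤ normalizer (D : Set G) → C = (S : Subgroup G) := by
      intro S hS
      have hsup : IsPGroup 3 (C ⊔ (S : Subgroup G) : Subgroup G) := by
        refine IsPGroup.to_sup_of_normal_left' (IsPGroup.of_card (n := 3) (by rw [h27]; norm_num))
          S.isPGroup' ?_
        intro s hs
        rw [mem_normalizer_iff]
        intro y
        have hn := hS hs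
        constructor
        · intro hy
          rw [hC, mem_centralizer_iff]
          intro a ha
          have ha' : s⁻¹ * a * s ∈ D := (mem_normalizer_iff''.1 hn a).1 ha
          have hcom := mem_centralizer_iff.1 hy _ ha'
          calc a * (s * y * s⁻¹) = s * ((s⁻¹ * a * s) * y) * s⁻¹ := by group
            _ = s * (y * (s⁻¹ * a * s)) * s⁻¹ := by rw [hcom]
            _ = s * y * s⁻¹ * a := by group
        · intro hy
          rw [hC, mem_centralizer_iff]
          intro a ha
          have ha' : s * a * s⁻¹ ∈ D := (mem_normalizer_iff.1 hn a).1 ha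
          have hcom := mem_centralizer_iff.1 hy _ ha'
          calc a * y = s⁻¹ * ((s * a * s⁻¹) * (s * y * s⁻¹)) * s := by group
            _ = s⁻¹ * ((s * y * s⁻¹) * (s * a * s⁻¹)) * s := by rw [hcom]
            _ = y * a := by group
      have heq := S.is_maximal' hsup le_sup_right
      exact eq_of_le_of_card_ge (le_sup_left.trans heq.le) (le_of_eq (by rw [card_sylow_three h, h27]))
    exact hPT (Sylow.ext ((key P hPN).symm.trans (key T hTN)))
  refine ⟨hab, fun a ha => ?_, hC9⟩
  -- not cyclic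
  by_contra hne
  have ho : orderOf a = 9 := by
    have hd : orderOf a ∣ 9 := hD ▸ Subgroup.orderOf_dvd_natCard _ ha
    have h3 : ¬ orderOf a ∣ 3 := fun hh => hne (orderOf_dvd_iff_pow_eq_one.1 hh)
    exact (by decide +kernel : ∀ d ∈ Nat.divisors 9, ¬ d ∣ 3 → d = 9) _
      (Nat.mem_divisors.2 ⟨hd, by norm_num⟩) h3
  haveI : IsCyclic D := isCyclic_of_orderOf_eq_card (⟨a, ha⟩ : D) (by rw [Subgroup.orderOf_mk, ho, hD])
  set N := normalizer (D : Set G)
  let f := D.normalizerMonoidHom
  have hker : f.ker = C.subgroupOf N := normalizerMonoidHom_ker D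
  have hdvd : (C.subgroupOf N).index ∣ 6 := by
    rw [← hker, index_ker]
    refine (card_subgroup_dvd_card _).trans (dvd_of_eq ?_)
    rw [IsCyclic.card_mulAut, hD]
    decide
  have h54 : Nat.card N ∣ 54 := by
    rw [← (C.subgroupOf N).card_mul_index, Nat.card_congr (subgroupOfEquivOfLe (centralizer_le_normalizer _)).toEquiv,
      show Nat.card C = 9 by rw [hC9, hD], show 54 = 9 * 6 by norm_num]
    exact Nat.mul_dvd_mul_left 9 hdvd
  -- but N has two Sylow subgroups
  have hidx : ((P : Subgroup G).subgroupOf N).index ∣ 2 := by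
    have hm := ((P : Subgroup G).subgroupOf N).card_mul_index
    rw [Nat.card_congr (subgroupOfEquivOfLe hPN).toEquiv, card_sylow_three h] at hm
    rw [← hm, show 54 = 27 * 2 by norm_num] at h54
    exact Nat.dvd_of_mul_dvd_mul_left (by norm_num) h54
  have hn1 : Nat.card (Sylow 3 N) = 1 := by
    have hd : Nat.card (Sylow 3 N) ∣ 2 := by
      refine ((P.subtype hPN).card_dvd_index).trans ?_
      rw [Sylow.coe_subtype]; exact hidx
    have hm := card_sylow_modEq_one 3 N
    unfold Nat.ModEq at hm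
    rcases (Nat.dvd_prime Nat.prime_two).1 hd with e | e <;> omega
  haveI := (Nat.card_eq_one_iff_unique.1 hn1).1
  have := congrArg (fun S : Sylow 3 N => (S : Subgroup N).map N.subtype)
    (Subsingleton.elim (P.subtype hPN) (T.subtype hTN))
  simp only [Sylow.coe_subtype, map_subgroupOf_eq_of_le hPN, map_subgroupOf_eq_of_le hTN] at this
  exact hPT (Sylow.ext this)

/-- An element inverting two distinct maximal subgroups of a Sylow subgroup. -/
theorem not_inverts_two {D D' : Subgroup G} (hC : centralizer (D : Set G) = D)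
    (hcard : Nat.card D' = Nat.card D) (hne : D' ≠ D)
    (hab : ∀ a ∈ D, ∀ b ∈ D, a * b = b * a) (hab' : ∀ a ∈ D', ∀ b ∈ D', a * b = b * a)
    (hexp : ∀ a ∈ D, a ^ 3 = 1) (hn : D' ≤ normalizer (D : Set G)) (hn' : D ≤ normalizer (D' : Set G))
    {t : G} (ht : ∀ d ∈ D, t * d * t⁻¹ = d⁻¹) (ht' : ∀ d ∈ D', t * d * t⁻¹ = d⁻¹) : False := by
  refine hne (eq_of_le_of_card_ge (fun b hb => ?_) (le_of_eq hcard.symm))
  rw [← hC, mem_centralizer_iff]
  intro a ha
  set c := a * b * a⁻¹ * b⁻¹ with hc
  have hcD : c ∈ D := by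
    rw [hc, show a * b * a⁻¹ * b⁻¹ = a * (b * a⁻¹ * b⁻¹) by group]
    exact mul_mem ha ((mem_normalizer_iff.1 (hn hb) a⁻¹).1 (inv_mem ha))
  have hcD' : c ∈ D' := mul_mem ((mem_normalizer_iff.1 (hn' ha) b).1 hb) (inv_mem hb)
  have h1 : t * c * t⁻¹ = a⁻¹ * b⁻¹ * a * b := by
    have e : t * c * t⁻¹ = (t * a * t⁻¹) * (t * b * t⁻¹) * (t * a * t⁻¹)⁻¹ * (t * b * t⁻¹)⁻¹ := by
      rw [hc]; group
    rw [e, ht a ha, ht' b hb, inv_inv, inv_inv]
  have hca : Commute c a := hab c hcD a ha
  have hcb : Commute c b := hab' c hcD' b hb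
  have h2 : a⁻¹ * b⁻¹ * a * b = c := by
    have e : a * b = c * (b * a) := by rw [hc]; group
    calc a⁻¹ * b⁻¹ * a * b = (b * a)⁻¹ * (a * b) := by group
      _ = (b * a)⁻¹ * (c * (b * a)) := by rw [e]
      _ = c := by rw [(hcb.mul_right hca).eq, inv_mul_cancel_left]
  rw [ht c hcD, h2] at h1
  have hc2 : c * c = 1 := by
    nth_rewrite 1 [← h1]
    rw [inv_mul_cancel]
  have hc1 : c = 1 := by
    have h3 := hexp c hcD
    rwa [pow_succ, pow_two, hc2, one_mul] at h3
  calc a * b = c * (b * a) := by rw [hc]; group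
    _ = b * a := by rw [hc1, one_mul]

/-- The setting of the recognition of `PSL(3,3)`. -/
theorem nonempty_psl33 (h : Nat.card G = 5616) :
    Nonempty (G ≃* Matrix.ProjectiveSpecialLinearGroup (Fin 3) (ZMod 3)) := by
  classical
  haveI : Fact (Nat.Prime 3) := ⟨Nat.prime_three⟩
  haveI : Fact (Nat.Prime 2) := ⟨Nat.prime_two⟩
  haveI := Fintype.ofFinite G
  have hG := not_comm h
  obtain ⟨P, T, hPT, hD⟩ := exists_inter_nine h
  set D := (P : Subgroup G) ⊓ (T : Subgroup G) with hDdef
  obtain ⟨hab, hexp, hC⟩ := structure_nine h hPT hD inf_le_left inf_le_right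
  have hPN := le_normalizer_nine h P hD inf_le_left
  have hTN := le_normalizer_nine h T hD inf_le_right
  set N := normalizer (D : Set G) with hNdef
  obtain ⟨φ, hker, hinv⟩ : ∃ φ : N →* M, (∀ g : N, φ g = 1 ↔ (g : G) ∈ centralizer (D : Set G)) ∧
      ∀ g : N, φ g = el 31 → ∀ d ∈ D, (g : G) * d * (g : G)⁻¹ = d⁻¹ := exists_hom_plane D hD hab hexp
  have hkerD : φ.ker = D.subgroupOf N := by
    ext g
    rw [MonoidHom.mem_ker, hker, hC, mem_subgroupOf]
  have hDN : D ≤ N := le_normalizer
  have hDN9 : Nat.card φ.ker = 9 := by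
    rw [hkerD, Nat.card_congr (subgroupOfEquivOfLe hDN).toEquiv, hD]
  -- images of the two Sylow subgroups
  have hgen : ∀ S : Sylow 3 G, D ≤ (S : Subgroup G) → ∀ hSN : (S : Subgroup G) ≤ N,
      ∃ x : N, (x : G) ∈ (S : Subgroup G) ∧ (x : G) ∉ D ∧ φ x ^ 3 = 1 ∧ φ x ≠ 1 := by
    intro S hDS hSN
    obtain ⟨x, hxS, hxD⟩ := SetLike.exists_of_lt (lt_of_le_of_ne hDS fun e => by
      have := card_sylow_three h S; rw [← e, hD] at this; norm_num at this)
    refine ⟨⟨x, hSN hxS⟩, hxS, hxD, ?_, fun e => hxD (hC ▸ (hker _).1 e)⟩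
    rw [← map_pow, hker, hC, SubgroupClass.coe_pow]
    have hi : (D.subgroupOf (S : Subgroup G)).index = 3 := by
      have h1 := (D.subgroupOf (S : Subgroup G)).card_mul_index
      rw [Nat.card_congr (subgroupOfEquivOfLe hDS).toEquiv, card_sylow_three h, hD] at h1
      omega
    haveI : (D.subgroupOf (S : Subgroup G)).Normal :=
      (normal_subgroupOf_iff_le_normalizer hDS).2 (le_normalizer_nine h S hD hDS)
    have := pow_index_mem (D.subgroupOf (S : Subgroup G)) (⟨x, hxS⟩ : (S : Subgroup G))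
    rwa [hi, mem_subgroupOf] at this
  obtain ⟨x, hxP, hxD, hx3, hx1⟩ := hgen P inf_le_left hPN
  obtain ⟨y, hyT, hyD, hy3, hy1⟩ := hgen T inf_le_right hTN
  have hyP : (y : G) ∉ (P : Subgroup G) := fun hh => hyD ⟨hh, hyT⟩
  have hmem31 : el 31 ∈ φ.range := by
    refine minus_one_mem φ.range ⟨x, rfl⟩ ⟨y, rfl⟩ hx3 hy3 hx1 fun hh => ?_
    obtain ⟨k, hk⟩ := mem_zpowers_iff.1 hh
    rw [← map_zpow, ← inv_mul_eq_one, ← map_inv, ← map_mul, hker, hC] at hk
    refine hyP ?_
    have h1 : ((x ^ k : N) : G) ∈ (P : Subgroup G) := by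
      rw [SubgroupClass.coe_zpow]; exact zpow_mem hxP k
    have h2 := mul_mem h1 (hk.1 : ((((x ^ k)⁻¹ * y : N)) : G) ∈ (P : Subgroup G))
    simpa using h2
  -- an involution inverting D
  obtain ⟨g, hg⟩ := hmem31
  have h31 : (el 31 : M) * el 31 = 1 := Units.ext (by
    show mat 31 * mat 31 = 1
    rw [mat_thirty_one, neg_mul_neg, one_mul])
  have h31' : (el 31 : M) ≠ 1 := fun e => absurd (el_injective (e.trans el_zero.symm)) (by decide)
  set τ := g ^ 9 with hτ
  have hτimg : φ τ = el 31 := by
    rw [hτ, map_pow, hg, show 9 = 2 * 4 + 1 by norm_num, pow_succ, pow_mul, pow_two, h31, one_pow, one_mul]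
  have hτ2 : τ * τ = 1 := by
    have hg2 : ((g * g : N) : G) ∈ D := hC ▸ (hker _).1 (by rw [map_mul, hg, h31])
    have h9 : ((g * g : N) : G) ^ 9 = 1 := orderOf_dvd_iff_pow_eq_one.1 (hD ▸ Subgroup.orderOf_dvd_natCard _ hg2)
    refine Subtype.ext ?_
    rw [hτ, ← (Commute.refl g).mul_pow, SubgroupClass.coe_pow, h9, OneMemClass.coe_one]
  set t := (τ : G) with htdef
  have htne : t ≠ 1 := fun e => h31' (by rw [← hτimg, show τ = 1 from Subtype.ext e, map_one])
  have ht : orderOf t = 2 := orderOf_eq_prime ((pow_two t).trans (congrArg Subtype.val hτ2)) htne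
  have htinv : ∀ d ∈ D, t * d * t⁻¹ = d⁻¹ := hinv τ hτimg
  -- the order of the normaliser
  have hNd : Nat.card N = 9 * Nat.card φ.range := by
    rw [← φ.ker.card_mul_index, hDN9, index_ker]
  have hrange : Nat.card φ.range ∣ 48 := card_M ▸ card_subgroup_dvd_card _
  have hN : Nat.card N ∣ 432 := by rw [hNd, show 432 = 9 * 48 by norm_num]; exact Nat.mul_dvd_mul_left 9 hrange
  -- the normalisers of the Sylow subgroup
  have hfull : Nat.card N = 432 := by
    by_contra hne432
    have hP' : t ∈ normalizer ((P : Subgroup G) : Set G) := by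
      have hsub : ∀ z : N, (z : G) ∈ (P : Subgroup G) → (τ * z * τ⁻¹ : N).1 ∈ (P : Subgroup G) := by
        intro z hz
        have himg : φ (τ * z * τ⁻¹) = φ z := by
          rw [map_mul, map_mul, map_inv, hτimg]
          have hc : el 31 * φ z = φ z * el 31 := Units.ext (by
            show mat 31 * (φ z : M).val = (φ z : M).val * mat 31
            rw [mat_thirty_one, neg_one_mul, mul_neg_one])
          rw [hc, mul_inv_cancel_right]
        have hmem : (((z⁻¹ * (τ * z * τ⁻¹)) : N) : G) ∈ D :=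
          hC ▸ (hker _).1 (by rw [map_mul, map_inv, himg, inv_mul_cancel])
        have := mul_mem hz hmem.1
        simpa [mul_assoc] using this
      have hle : (P : Subgroup G).map (MulAut.conj t).toMonoidHom ≤ (P : Subgroup G) := by
        rintro _ ⟨z, hz, rfl⟩
        exact hsub ⟨z, hPN hz⟩ hz
      have heq := eq_of_le_of_card_ge hle (le_of_eq (card_map_of_injective (MulAut.conj t).injective).symm)
      rw [mem_normalizer_iff]
      intro z
      constructor
      · intro hz
        exact heq ▸ ⟨z, hz, rfl⟩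
      · intro hz
        rw [← heq] at hz
        obtain ⟨z', hz', hzz⟩ := hz
        exact (MulAut.conj t).injective hzz ▸ hz'
    set NP := normalizer ((P : Subgroup G) : Set G) with hNP
    have hmulP := card_sylow_mul_card_normalizer P
    rw [h, ← hNP] at hmulP
    have h4 : 4 ∣ Nat.card NP := by
      have h27 : 27 ∣ Nat.card NP := card_sylow_three h P ▸ card_dvd_of_le le_normalizer
      have h2 : 2 ∣ Nat.card NP := ht ▸ Subgroup.orderOf_dvd_natCard _ hP'
      have hmod := card_sylow_modEq_one 3 G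
      have hf := two_mul_card_dvd_factorial_card_sylow hG (p := 3) (by rw [h]; norm_num)
      rw [h] at hf
      set n := Nat.card (Sylow 3 G)
      have hnd : n ∣ 208 := by
        obtain ⟨c, hc⟩ := h27
        refine Dvd.intro c (Nat.eq_of_mul_eq_mul_left (show 0 < 27 by norm_num) ?_)
        rw [show 27 * 208 = 5616 by norm_num, ← hmulP, hc]; ring
      have hn := (by decide +kernel : ∀ k ∈ Nat.divisors 208, k % 3 = 1 → k ≠ 1 → k ≠ 4 →
        k = 13 ∨ k = 16 ∨ k = 52 ∨ k = 208) n (Nat.mem_divisors.2 ⟨hnd, by norm_num⟩) hmod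
        (fun e => by rw [e] at hf; norm_num at hf) (fun e => by rw [e] at hf; norm_num [Nat.factorial] at hf)
      rcases hn with e | e | e | e <;> rw [e] at hmulP <;> omega
    -- a second element commuting with t
    obtain ⟨S, hS⟩ := (IsPGroup.of_card (p := 2) (n := 1) (G := zpowers (⟨t, hP'⟩ : NP))
      (by rw [Nat.card_zpowers, Subgroup.orderOf_mk, ht, pow_one])).exists_le_sylow
    have hS4 : 4 ∣ Nat.card (S : Subgroup NP) := S.pow_dvd_card_of_pow_dvd_card (n := 2) h4
    haveI : Group.IsNilpotent (S : Subgroup NP) := S.isPGroup'.isNilpotent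
    have hne : (zpowers (⟨t, hP'⟩ : NP)).subgroupOf (S : Subgroup NP) < ⊤ := by
      refine lt_top_iff_ne_top.2 fun hh => ?_
      have := card_dvd_of_le (subgroupOf_eq_top.1 hh)
      rw [Nat.card_zpowers, Subgroup.orderOf_mk, ht] at this
      have := Nat.le_of_dvd two_pos (hS4.trans this)
      omega
    obtain ⟨w, hwN, hw⟩ := SetLike.exists_of_lt (Group.normalizerCondition_of_isNilpotent _ hne)
    have htS : (⟨t, hP'⟩ : NP) ∈ (S : Subgroup NP) := hS (mem_zpowers _)
    obtain ⟨j, hj⟩ := mem_zpowers_iff.1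
      ((mem_normalizer_iff.1 hwN ⟨_, htS⟩).1 (mem_zpowers (⟨t, hP'⟩ : NP)))
    set w' := ((w : NP) : G) with hw'
    have hwt : w' * t * w'⁻¹ = t := by
      have hj' : t ^ j = w' * t * w'⁻¹ := congrArg Subtype.val hj
      rcases Int.even_or_odd' j with ⟨m, rfl | rfl⟩
      · rw [zpow_mul, zpow_two, show t * t = 1 from congrArg Subtype.val hτ2, one_zpow] at hj'
        exact absurd (conj_eq_one_iff.1 hj'.symm) htne
      · rw [zpow_add, zpow_mul, zpow_two, show t * t = 1 from congrArg Subtype.val hτ2, one_zpow,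
          zpow_one, one_mul] at hj'
        exact hj'.symm
    have hwP : w' ∈ NP := (w : NP).2
    have hwout : w' ∉ N := by
      intro hwNN
      -- the normaliser of P inside N is too small
      set L := (zpowers (⟨t, hP'⟩ : NP)) ⊔ zpowers (w : NP) with hL
      have hLS : L ≤ (S : Subgroup NP) := sup_le hS (zpowers_le.2 w.2)
      set L' := L.map NP.subtype with hL'
      have hL'le : L' ≤ NP ⊓ N := by
        rw [hL', hL, Subgroup.map_sup, sup_le_iff]
        refine ⟨?_, ?_⟩ <;> rw [MonoidHom.map_zpowers, zpowers_le]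
        · exact ⟨hP', τ.2⟩
        · exact ⟨hwP, hwNN⟩
      have hL4 : 4 ∣ Nat.card L' := by
        rw [card_map_of_injective NP.subtype_injective]
        obtain ⟨b, hb⟩ := IsPGroup.iff_card.1 (S.isPGroup'.to_le hLS)
        rcases le_or_gt 2 b with hb2 | hb2
        · rw [hb]; exact pow_dvd_pow 2 hb2
        · exfalso
          have heq := eq_of_le_of_card_ge (le_sup_left : zpowers (⟨t, hP'⟩ : NP) ≤ L) (by
            rw [Nat.card_zpowers, Subgroup.orderOf_mk, ht, hb]
            exact le_trans (Nat.pow_le_pow_right two_pos (by omega : b ≤ 1)) le_rfl)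
          exact hw (mem_subgroupOf.2 (heq ▸ (le_sup_right : zpowers (w : NP) ≤ L) (mem_zpowers _)))
      set P' := P.subtype hPN
      have hP'map : (normalizer ((P' : Subgroup N) : Set N)).map N.subtype = NP ⊓ N := by
        refine le_antisymm (le_inf ?_ (map_subtype_le _)) ?_
        · have h2 := le_normalizer_map (H := (P' : Subgroup N)) N.subtype
          rwa [Sylow.coe_subtype, map_subgroupOf_eq_of_le hPN] at h2
        · rintro z ⟨hz, hzN⟩
          refine ⟨⟨z, hzN⟩, mem_normalizer_iff.2 fun a => ?_, rfl⟩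
          rw [Sylow.coe_subtype, mem_subgroupOf, mem_subgroupOf]
          exact mem_normalizer_iff.1 hz a
      have hcardP' := card_sylow_mul_card_normalizer P'
      rw [show Nat.card (normalizer ((P' : Subgroup N) : Set N)) = Nat.card (NP ⊓ N : Subgroup G) by
        rw [← hP'map, card_map_of_injective N.subtype_injective]] at hcardP'
      have hd4 : 4 ∣ Nat.card (NP ⊓ N : Subgroup G) := hL4.trans (card_dvd_of_le hL'le)
      have hd27 : 27 ∣ Nat.card (NP ⊓ N : Subgroup G) :=
        card_sylow_three h P ▸ card_dvd_of_le (le_inf le_normalizer hPN)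
      have h108 : 108 ∣ Nat.card (NP ⊓ N : Subgroup G) :=
        (show Nat.Coprime 4 27 by norm_num).mul_dvd_of_dvd_of_dvd hd4 hd27
      have hn4 : 4 ≤ Nat.card (Sylow 3 N) := by
        have hm := card_sylow_modEq_one 3 N
        have h1 : Nat.card (Sylow 3 N) ≠ 1 := by
          intro h1
          haveI := (Nat.card_eq_one_iff_unique.1 h1).1
          have := congrArg (fun S : Sylow 3 N => (S : Subgroup N).map N.subtype)
            (Subsingleton.elim (P.subtype hPN) (T.subtype hTN))
          simp only [Sylow.coe_subtype, map_subgroupOf_eq_of_le hPN, map_subgroupOf_eq_of_le hTN] at this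
          exact hPT (Sylow.ext this)
        have h0 : 0 < Nat.card (Sylow 3 N) := Nat.card_pos
        unfold Nat.ModEq at hm
        omega
      have hge : 108 ≤ Nat.card (NP ⊓ N : Subgroup G) := Nat.le_of_dvd Nat.card_pos h108
      have := Nat.mul_le_mul hn4 hge
      have := Nat.le_of_dvd (by norm_num) hN
      omega
    set D' := D.map (MulAut.conj w').toMonoidHom with hD'
    have hD'c : Nat.card D' = 9 := by rw [card_map_of_injective (MulAut.conj w').injective, hD]
    have hD'P : D' ≤ (P : Subgroup G) := by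
      rintro _ ⟨d, hd, rfl⟩
      exact (mem_normalizer_iff.1 hwP d).1 hd.1
    have hne' : D' ≠ D := by
      intro e
      refine hwout ?_
      rw [hNdef, mem_normalizer_iff]
      intro z
      constructor
      · intro hz
        have : w' * z * w'⁻¹ ∈ D' := ⟨z, hz, rfl⟩
        rwa [e] at this
      · intro hz
        replace hz : w' * z * w'⁻¹ ∈ D' := e.symm ▸ hz
        obtain ⟨z', hz', hzz⟩ := hz
        exact (MulAut.conj w').injective hzz ▸ hz'
    refine not_inverts_two hC (by rw [hD'c, hD]) hne' hab ?_ hexp (hD'P.trans hPN)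
      ((inf_le_left : D ≤ (P : Subgroup G)).trans (le_normalizer_nine h P hD'c hD'P)) htinv ?_
    · rintro _ ⟨a, ha, rfl⟩ _ ⟨b, hb, rfl⟩
      show (MulAut.conj w') a * (MulAut.conj w') b = (MulAut.conj w') b * (MulAut.conj w') a
      rw [← map_mul, ← map_mul, hab a ha b hb]
    · rintro _ ⟨a, ha, rfl⟩
      show t * (w' * a * w'⁻¹) * t⁻¹ = (w' * a * w'⁻¹)⁻¹
      have hc : w' * t = t * w' := mul_inv_eq_iff_eq_mul.1 hwt
      calc t * (w' * a * w'⁻¹) * t⁻¹ = (t * w') * a * (t * w')⁻¹ := by group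
        _ = (w' * t) * a * (w' * t)⁻¹ := by rw [hc]
        _ = w' * (t * a * t⁻¹) * w'⁻¹ := by group
        _ = _ := by rw [htinv a ha]; group
  -- the centraliser of t
  have hsurj : φ.range = ⊤ := eq_top_of_card_eq _ (by rw [card_M]; omega)
  set Ct := centralizer ({t} : Set G) with hCt
  let f : (Ct.subgroupOf N) →* M := φ.comp (Ct.subgroupOf N).subtype
  have hfinj : Function.Injective f := by
    rw [injective_iff_map_eq_one]
    intro z hz
    have hzD : ((z : N) : G) ∈ D := hC ▸ (hker _).1 hz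
    have hct : ((z : N) : G) * t = t * ((z : N) : G) :=
      mem_centralizer_singleton_iff.1 (mem_subgroupOf.1 z.2)
    have h1 := htinv _ hzD
    rw [← hct, mul_inv_cancel_right] at h1
    have h3 := hexp _ hzD
    have h2 : ((z : N) : G) * ((z : N) : G) = 1 := by nth_rewrite 1 [h1]; rw [inv_mul_cancel]
    rw [pow_succ, pow_two, h2, one_mul] at h3
    exact Subtype.ext (Subtype.ext h3)
  have hfsurj : Function.Surjective f := by
    intro m
    obtain ⟨g₀, hg₀⟩ := MonoidHom.range_eq_top.1 hsurj m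
    -- correct the preimage by an element of D
    set d := (τ⁻¹ * (g₀ * τ * g₀⁻¹) : N) with hd
    have hdD : (d : G) ∈ D := by
      refine hC ▸ (hker _).1 ?_
      rw [hd, map_mul, map_mul, map_mul, map_inv, map_inv, hτimg]
      have hc : φ g₀ * el 31 = el 31 * φ g₀ := Units.ext (by
        show (φ g₀ : M).val * mat 31 = mat 31 * (φ g₀ : M).val
        rw [mat_thirty_one, neg_one_mul, mul_neg_one])
      rw [hc, mul_inv_cancel_right, inv_mul_cancel]
    set c : G := (d : G) * d with hcdef
    have hcD : c ∈ D := mul_mem hdD hdD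
    refine ⟨⟨⟨c, hDN hcD⟩ * g₀, ?_⟩, ?_⟩
    · rw [mem_subgroupOf, hCt, mem_centralizer_singleton_iff]
      show c * (g₀ : G) * t = t * (c * (g₀ : G))
      have e1 : (g₀ : G) * t * (g₀ : G)⁻¹ = t * (d : G) := by
        show (g₀ : G) * t * (g₀ : G)⁻¹ = t * (t⁻¹ * ((g₀ : G) * t * (g₀ : G)⁻¹))
        group
      have hd3 := hexp _ hdD
      have e2 : c * (t * (d : G)) = t * c := by
        have hi := htinv c⁻¹ (inv_mem hcD)
        rw [inv_inv] at hi
        rw [show c * (t * (d : G)) = (t * c⁻¹ * t⁻¹) * (t * (d : G)) by rw [hi],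
          show t * c⁻¹ * t⁻¹ * (t * (d : G)) = t * (c⁻¹ * (d : G)) by group]
        congr 1
        rw [inv_mul_eq_iff_eq_mul, hcdef]
        have : (d : G) ^ 4 = (d : G) := by rw [show 4 = 3 + 1 by rfl, pow_succ, hd3, one_mul]
        conv_lhs => rw [← this]
        simp [pow_succ, mul_assoc]
      calc c * (g₀ : G) * t = c * ((g₀ : G) * t * (g₀ : G)⁻¹) * g₀ := by group
        _ = t * c * g₀ := by rw [e1, e2]
        _ = _ := by group
    · show φ (⟨c, hDN hcD⟩ * g₀) = m
      rw [map_mul, (hker _).2 (by rw [hC]; exact hcD), one_mul, hg₀]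
  let ef : (Ct.subgroupOf N) ≃* M := MulEquiv.ofBijective f ⟨hfinj, hfsurj⟩
  have h48 : Nat.card (Ct.subgroupOf N) = 48 := by rw [Nat.card_congr ef.toEquiv, card_M]
  have hCtle : Nat.card Ct ≤ 48 := by
    have hd := centralizer_dvd h ht
    have h9 := not_nine_dvd h ht
    exact (by decide +kernel : ∀ d ∈ Nat.divisors 432, ¬ 9 ∣ d → d ≤ 48) _
      (Nat.mem_divisors.2 ⟨hd, by norm_num⟩) h9
  have hCtN : Ct ≤ N := by
    have e : (Ct.subgroupOf N).map N.subtype = Ct := by
      refine eq_of_le_of_card_ge ?_ (by rw [card_map_of_injective N.subtype_injective, h48]; exact hCtle)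
      rintro _ ⟨z, hz, rfl⟩
      exact hz
    rw [← e]; exact map_subtype_le _
  let e : Ct ≃* M := (subgroupOfEquivOfLe hCtN).symm.trans ef
  let S : Setup G :=
    { t := t
      e := e
      ht := ht
      hone := fun x hx => isConj_involution e ht (pResidual_eq_top_of_simple (by rw [h]; norm_num)) hx
      simple := inferInstance
      hcard := h }
  exact Model.nonempty_psl S

end CfsgLib.SmallOrders.PSL33
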