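import Cfsg.Agent.Lib.SmallOrders.PSL33.DegreeData
import Cfsg.Agent.Lib.SmallOrders.Range.Central
import Cfsg.Agent.Lib.CharDegreesTheory.PrimeDegrees

/-!
A simple group of order 5616: the Sylow 13-subgroup and the characters of degree 12 and 27.
-/

set_option autoImplicit false
set_option linter.style.haveILetI false

namespace CfsgLib.SmallOrders.PSL33

open Subgroup MulAction Cfsg CfsgLib.CharTheory CfsgLib.SmallGroups

universe u

variable {G : Type u} [Group G] [Finite G] [IsSimpleGroup G]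

theorem not_comm (h : Nat.card G = 5616) : ¬ IsMulCommutative G := fun hc => by
  letI : CommGroup G := { (inferInstance : Group G) with mul_comm := hc.is_comm.comm }
  have := IsSimpleGroup.prime_card (α := G)
  rw [h] at this
  norm_num at this

theorem card_sylow_thirteen (h : Nat.card G = 5616) [Fact (Nat.Prime 13)] (P : Sylow 13 G) :
    Nat.card ↥(centralizer ((P : Subgroup G) : Set G)) = 13 ∧
      Nat.card ↥(normalizer ((P : Subgroup G) : Set G)) = 39 := by
  have hG := not_comm h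
  haveI : Fact (Nat.Prime 2) := ⟨Nat.prime_two⟩
  obtain ⟨c, e, hC, hN, he1, he, hprod⟩ :=
    sylow_prime_data (m := 432) hG (by rw [h]) (by norm_num) P
  have hmod := card_sylow_modEq_one 13 G
  set n := Nat.card (Sylow 13 G) with hn
  have hnd : n ∣ 432 := Dvd.intro _ hprod
  have hn1 : n ≠ 1 := fun h1 => by
    have := two_mul_card_dvd_factorial_card_sylow hG (p := 13) (by rw [h]; norm_num)
    rw [← hn, h1, h] at this
    norm_num at this
  have hcases : n = 27 ∨ n = 144 := (by decide +kernel :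
    ∀ k ∈ Nat.divisors 432, k % 13 = 1 → k ≠ 1 → k = 27 ∨ k = 144) n
      (Nat.mem_divisors.2 ⟨hnd, by norm_num⟩) hmod hn1
  have he12 : e ∈ [2, 3, 4, 6, 12] := (by decide +kernel :
    ∀ k ∈ Nat.divisors 12, 1 < k → k ∈ [2, 3, 4, 6, 12]) e (Nat.mem_divisors.2 ⟨he, by norm_num⟩) he1
  simp only [List.mem_cons, List.not_mem_nil, or_false] at he12
  rcases hcases with h27 | h144
  · exfalso
    have h2c : 2 ∣ c := by
      rw [h27] at hprod
      rcases he12 with rfl | rfl | rfl | rfl | rfl <;> omega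
    obtain ⟨g, z, hgP, hg, -, hz, hgz, hgen⟩ :=
      Range.exists_commuting (m := 432) (by rw [h]) (by norm_num) P hC h2c
    let X := {R : Sylow 13 G // z • R = R}
    have hgX : ∀ (k : zpowers g) (R : X), z • ((k : G) • R.1) = (k : G) • R.1 := by
      intro k R
      obtain ⟨j, hj⟩ := mem_zpowers_iff.1 k.2
      rw [← mul_smul, ← hj, ((hgz.zpow_left j).symm).eq, mul_smul, R.2]
    let _ : MulAction (zpowers g) X :=
      { smul := fun k R => ⟨(k : G) • R.1, hgX k R⟩
        one_smul := fun R => Subtype.ext (one_smul G R.1)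
        mul_smul := fun k k' R => Subtype.ext (mul_smul (k : G) k' R.1) }
    have hp : IsPGroup 13 (zpowers g) := IsPGroup.of_card (n := 1) (by rw [Nat.card_zpowers, hg, pow_one])
    have hone : Nat.card (fixedPoints (zpowers g) X) = 1 := by
      rw [Nat.card_eq_one_iff_unique]
      have hzP : z • P = P := by
        rw [Sylow.smul_eq_iff_mem_normalizer]
        show z ∈ normalizer ((P : Subgroup G) : Set G)
        apply centralizer_le_normalizer
        rw [← hgen, zpowers_eq_closure, centralizer_closure, mem_centralizer_singleton_iff]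
        exact hgz.eq.symm
      refine ⟨⟨fun a b => ?_⟩, ⟨⟨⟨P, hzP⟩, fun k => Subtype.ext ?_⟩⟩⟩
      · have key : ∀ R : fixedPoints (zpowers g) X, R.1.1 = P := by
          intro R
          have hR := congrArg Subtype.val (R.2 ⟨g, mem_zpowers g⟩)
          change g • R.1.1 = R.1.1 at hR
          rw [Sylow.smul_eq_iff_mem_normalizer] at hR
          have hp' : IsPGroup 13 (zpowers g) := hp
          have hle : zpowers g ≤ (R.1.1 : Subgroup G) :=
            ((le_inf le_rfl (zpowers_le.2 hR)).trans (hp'.inf_normalizer_sylow R.1.1).le).trans inf_le_right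
          exact (Sylow.ext (eq_of_le_of_card_ge (hgen.ge.trans hle) (le_of_eq (by
            rw [R.1.1.card_eq_multiplicity, P.card_eq_multiplicity])))).symm
        exact Subtype.ext (Subtype.ext ((key a).trans (key b).symm))
      · show (k : G) • P = P
        rw [Sylow.smul_eq_iff_mem_normalizer]
        exact le_normalizer (hgen.le k.2 : (k : G) ∈ (P : Subgroup G))
    have hm := hp.card_modEq_card_fixedPoints X
    rw [hone] at hm
    have hfix : Nat.card X = Nat.card (fixedBy (Sylow 13 G) z) := rfl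
    have h4 := four_dvd_moved (α := Sylow 13 G) hG (g := z) (hz ▸ pow_orderOf_eq_one z)
    have h2m := KGroups.SmallOrders.card_modEq_card_fixedBy (α := Sylow 13 G) (hz ▸ pow_orderOf_eq_one z : z ^ 2 = 1)
    have hlt : Nat.card (fixedBy (Sylow 13 G) z) ≤ 27 := h27 ▸ Finite.card_subtype_le _
    rw [show Nat.card (Sylow 13 G) = 27 from h27] at h4 h2m
    rw [hfix] at hm
    have hne : Nat.card (fixedBy (Sylow 13 G) z) ≠ 27 := by
      intro hall
      haveI : Finite (fixedBy (Sylow 13 G) z) := Subtype.finite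
      have huniv : fixedBy (Sylow 13 G) z = Set.univ := by
        refine Set.eq_of_subset_of_ncard_le (Set.subset_univ _) ?_ (Set.toFinite _)
        rw [Set.ncard_univ, ← Nat.card_coe_set_eq, hall, ← hn, h27]
      have hzk : z ∈ (toPermHom G (Sylow 13 G)).ker := by
        rw [MonoidHom.mem_ker]
        ext R : 1
        exact (huniv ▸ Set.mem_univ R : R ∈ fixedBy (Sylow 13 G) z)
      rcases ((toPermHom G (Sylow 13 G)).normal_ker).eq_bot_or_eq_top with hb | ht
      · rw [hb, mem_bot] at hzk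
        rw [hzk, orderOf_one] at hz
        omega
      · refine hn1 ?_
        rw [hn, P.card_eq_index_normalizer, index_eq_one]
        refine eq_top_iff.2 fun y _ => ?_
        rw [← Sylow.smul_eq_iff_mem_normalizer]
        have hy : y ∈ (toPermHom G (Sylow 13 G)).ker := ht ▸ mem_top y
        exact congrArg (fun σ : Equiv.Perm (Sylow 13 G) => σ P) (MonoidHom.mem_ker.1 hy)
    unfold Nat.ModEq at hm h2m
    omega
  · rw [h144] at hprod
    rcases he12 with rfl | rfl | rfl | rfl | rfl <;> omega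

/-- An element commuting with an element of order 13 lies in its Sylow subgroup. -/
theorem orderOf_dvd_of_commute_thirteen (h : Nat.card G = 5616) {g y : G} (hg : orderOf g = 13)
    (hc : Commute g y) : orderOf y ∣ 13 := by
  haveI : Fact (Nat.Prime 13) := ⟨by norm_num⟩
  have hp : IsPGroup 13 (zpowers g) := IsPGroup.of_card (n := 1) (by rw [Nat.card_zpowers, hg, pow_one])
  obtain ⟨P, hP⟩ := hp.exists_le_sylow
  have hPg : zpowers g = (P : Subgroup G) := eq_of_le_of_card_ge hP (le_of_eq (by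
    rw [Nat.card_zpowers, hg]
    simpa using card_sylow_eq (a := 1) (m := 432) (by rw [h]; norm_num) (by norm_num) P))
  have hy : y ∈ centralizer ((P : Subgroup G) : Set G) := by
    rw [← hPg, zpowers_eq_closure, centralizer_closure, mem_centralizer_singleton_iff]
    exact hc.eq.symm
  exact (card_sylow_thirteen h P).1 ▸ Subgroup.orderOf_dvd_natCard _ hy

/-- The characters of degree 12 and 27, the relation between their values and a character of degree
16, and a degree divisible by 13. -/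
theorem exists_characters (h : Nat.card G = 5616) :
    ∃ χa χb : IrrCharacter G, (χa : G → ℂ) 1 = 12 ∧ (χb : G → ℂ) 1 = 27 ∧
      (∀ y : G, y ≠ 1 → ¬ 13 ∣ orderOf y → ∃ ψ : IrrCharacter G, (ψ : G → ℂ) 1 = 16 ∧
        1 - (χa : G → ℂ) y + (χb : G → ℂ) y - (ψ : G → ℂ) y = 0) ∧
      ∃ (ψ : IrrCharacter G) (d : ℕ), (ψ : G → ℂ) 1 = d ∧ 13 ∣ d := by
  classical
  haveI : Fact (Nat.Prime 13) := ⟨by norm_num⟩
  haveI := Fintype.ofFinite G
  have hG := not_comm h
  obtain ⟨P⟩ := (inferInstance : Nonempty (Sylow 13 G))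
  obtain ⟨hC, hN⟩ := card_sylow_thirteen h P
  have hP : Nat.card ↥(P : Subgroup G) = 13 := by
    simpa using card_sylow_eq (a := 1) (m := 432) (by rw [h]; norm_num) (by norm_num) P
  obtain ⟨L, deg, x, ε, hL, hLp, hε, hx1, hxd, hxm, heq, hsq, hdeg, -, hrel, hstrict⟩ :=
    degree_data hG (e := 3) (t := 4) P hP hC (by rw [hN]) (by norm_num) le_rfl (by norm_num) (by norm_num)
  obtain ⟨c1, c2, hne, rfl⟩ := Finset.card_eq_two.mp hL
  rw [Finset.sum_pair hne] at heq hsq
  have key : ∀ c ∈ ({c1, c2} : Finset (IrrCharacter G × ℤ)),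
      (c.2 = -1 ∧ deg c.1 = 12) ∨ (c.2 = 1 ∧ deg c.1 = 27) := by
    intro c hc
    obtain ⟨h1, h2, h3, h4⟩ := hLp c hc
    have hle : deg c.1 ^ 2 < 5616 := by
      rw [h] at hsq
      simp only [Finset.mem_insert, Finset.mem_singleton] at hc
      rcases hc with rfl | rfl <;> omega
    have hd := (by decide +kernel : ∀ d ∈ Nat.divisors 5616, 1 < d → d ^ 2 < 5616 →
      ((13 : ℤ) ∣ (d : ℤ) - 1 → d = 27) ∧ ((13 : ℤ) ∣ (d : ℤ) - (-1) → d = 12)) (deg c.1)
      (Nat.mem_divisors.2 ⟨h ▸ h3, by norm_num⟩) h2 hle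
    rcases h1 with e | e <;> rw [e] at h4
    · exact Or.inr ⟨e, hd.1 h4⟩
    · exact Or.inl ⟨e, hd.2 h4⟩
  obtain ⟨hε1, hx16⟩ : ε = -1 ∧ x = 16 := by
    have hx' := (by decide +kernel : ∀ d ∈ Nat.divisors 5616, ∀ e ∈ ([1, -1] : List ℤ),
      (13 : ℤ) ∣ (d : ℤ) + 3 * e → ∀ a ∈ ([-12, 27] : List ℤ), ∀ b ∈ ([-12, 27] : List ℤ),
        1 + (a + b) + e * d = 0 → e = -1 ∧ d = 16 ∧ a ≠ b) x (Nat.mem_divisors.2 ⟨h ▸ hxd, by norm_num⟩) ε
      (by rcases hε with e | e <;> simp [e]) (by exact_mod_cast hxm)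
      (c1.2 * deg c1.1) (by rcases key c1 (by simp) with ⟨a, b⟩ | ⟨a, b⟩ <;> simp [a, b])
      (c2.2 * deg c2.1) (by rcases key c2 (by simp) with ⟨a, b⟩ | ⟨a, b⟩ <;> simp [a, b])
      heq
    obtain ⟨he', hd', hab⟩ := hx'
    exact ⟨he', hd'⟩
  -- identify the two members
  obtain ⟨χa', χb', ha', hb', hmem⟩ : ∃ χa' χb' : IrrCharacter G, deg χa' = 12 ∧ deg χb' = 27 ∧
      ∀ f : IrrCharacter G → ℂ, (c1.2 : ℂ) * f c1.1 + (c2.2 : ℂ) * f c2.1 = - f χa' + f χb' := by
    rw [hx16, hε1] at heq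
    rcases key c1 (by simp) with ⟨a1, b1⟩ | ⟨a1, b1⟩ <;>
      rcases key c2 (by simp) with ⟨a2, b2⟩ | ⟨a2, b2⟩ <;> rw [a1, b1, a2, b2] at heq
    · norm_num at heq
    · exact ⟨c1.1, c2.1, b1, b2, fun f => by rw [a1, a2]; push_cast; ring⟩
    · exact ⟨c2.1, c1.1, b2, b1, fun f => by rw [a1, a2]; push_cast; ring⟩
    · norm_num at heq
  refine ⟨χa', χb', by rw [hdeg, ha']; norm_num, by rw [hdeg, hb']; norm_num, ?_, ?_⟩
  · intro y hy h13
    obtain ⟨ψ, hψ, hψeq⟩ := hrel y (fun z hz hz1 hc => h13 (by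
      obtain ⟨k, hk⟩ := isConj_iff.1 hc
      rw [← (MulAut.conj k).orderOf_eq y, MulAut.conj_apply, hk]
      have hd := Subgroup.orderOf_dvd_natCard _ hz
      rw [hP] at hd
      rcases (Nat.dvd_prime (by norm_num : Nat.Prime 13)).1 hd with e | e
      · exact absurd (orderOf_eq_one_iff.1 e) hz1
      · rw [e]))
    refine ⟨ψ, by rw [hdeg, hψ, hx16]; norm_num, ?_⟩
    rw [Finset.sum_pair hne, hε1, hmem (fun φ => (φ : G → ℂ) y)] at hψeq
    push_cast at hψeq
    linear_combination hψeq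
  · obtain ⟨ψ, hψ⟩ := hstrict (by
      rw [h, Finset.sum_pair hne, hx16]
      rcases key c1 (by simp) with ⟨-, b1⟩ | ⟨-, b1⟩ <;>
        rcases key c2 (by simp) with ⟨-, b2⟩ | ⟨-, b2⟩ <;> rw [b1, b2] <;> norm_num)
    exact ⟨ψ, _, hdeg ψ, hψ⟩

end CfsgLib.SmallOrders.PSL33
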